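import Cfsg.Agent.Fg24.PSolvHeight.Invariant
import Cfsg.Agent.Blocks.FongReynolds
import Cfsg.Agent.Blocks.PrimeCoreBlock
import Cfsg.Agent.BlockChar.Defect
import Cfsg.Agent.BlockThms.DefectGroup
import Cfsg.Agent.QdFree.SL2Facts

/-!
Heights in blocks of `p`-solvable groups are bounded by the index of the centre of a defect group.
-/

set_option autoImplicit false

namespace Cfsg.Agent.Fg24.PSolvHeight

universe u

theorem center_index_eq {G H : Type*} [Group G] [Group H] (e : G ≃* H) :
    (Subgroup.center G).index = (Subgroup.center H).index := by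
  have h : Subgroup.center G = (Subgroup.center H).comap (e : G →* H) := by
    ext x
    simp only [Subgroup.mem_comap, Subgroup.mem_center_iff, MonoidHom.coe_coe]
    exact ⟨fun hx y => by
      obtain ⟨y, rfl⟩ := e.surjective y
      rw [← map_mul, ← map_mul, hx y], fun hx y => e.injective (by rw [map_mul, map_mul, hx (e y)])⟩
  rw [h]
  exact Subgroup.index_comap_of_surjective _ e.surjective

variable {p : ℕ} [hp : Fact p.Prime]

theorem height_le_aux : ∀ n : ℕ, ∀ (G : Type u) [Group G] [Finite G], Nat.card G = n →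
    Cfsg.IsPSolvable p G → ∀ (M : Ideal Cfsg.AlgInt), Cfsg.IsPModular p M →
    ∀ (B : Set (Cfsg.IrrCharacter G)), Cfsg.IsPBlock M B → ∀ (P : Subgroup G),
    Cfsg.IsDefectGroup p M B P → ∀ χ ∈ B,
    Cfsg.blockHeight p B (χ : G → ℂ) ≤ ((Subgroup.center P).index).factorization p := by
  intro n
  induction n using Nat.strong_induction_on with
  | _ n ih =>
  intro G _ _ hn hs M hM B hB P hP χ hχ
  classical
  have := Fintype.ofFinite G
  set K := Cfsg.pPrimeCore p G with hK
  have := Fintype.ofFinite K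
  obtain ⟨θ, hθ⟩ := Char.exists_constituent_res (N := K) χ.2
  by_cases hinv : ∀ g : G, Char.conjFun g (θ : K → ℂ) = θ
  · obtain ⟨B₀, hB₀, hB₀iff, -, hdef, -⟩ := Blocks.exists_invariant_block_of_pConstrained hM
      (Layer.isPConstrained_of_isPSolvable hs) hK θ hinv
    have heq : B₀ = B := by
      obtain ⟨c, hc⟩ := hB
      obtain ⟨c₀, hc₀⟩ := hB₀
      have h1 : χ ∈ B₀ := (hB₀iff χ).2 hθ
      rw [Blocks.IsPBlock.eq_blockOf hM ⟨c, hc⟩ hχ, Blocks.IsPBlock.eq_blockOf hM ⟨c₀, hc₀⟩ h1]
    subst heq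
    obtain ⟨S, rfl⟩ := hdef P hP
    rw [BlockChar.blockHeight_eq]
    exact (Nat.sub_le _ _).trans (degree_valuation_le hs hK θ hinv χ hθ S)
  · set T := Char.inertia (θ : K → ℂ) with hT
    have := Fintype.ofFinite T
    have hKT : K ≤ T := Char.le_inertia (Char.isClassFunction_of_isIrr θ.2)
    have hKp : ¬ p ∣ Nat.card K := Core.not_dvd_card_pPrimeCore
    let b : Set (Cfsg.IrrCharacter K) := Cfsg.blockOf M (θ : K → ℂ)
    have hb : Cfsg.IsPBlock M b := ⟨θ, rfl⟩
    have hbθ : b = {θ} := Blocks.blockOf_eq_singleton_of_not_dvd hM hKp θ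
    have hTiff : ∀ g : G, g ∈ T ↔ ∀ η ∈ b, ∀ η' : Cfsg.IrrCharacter K,
        (∀ m : K, (η' : K → ℂ) m = (η : K → ℂ)
          ⟨g * m * g⁻¹, (inferInstance : K.Normal).conj_mem m m.2 g⟩) → η' ∈ b := by
      intro g
      rw [hbθ, hT, Char.mem_inertia]
      constructor
      · intro hg η hη η' he
        rw [Set.mem_singleton_iff] at hη ⊢
        refine Subtype.ext (funext fun m => ?_)
        rw [he m, hη]
        exact congrFun hg m
      · intro h
        have := h θ rfl ⟨Char.conjFun g (θ : K → ℂ), Char.isIrr_conjFun g θ.2⟩ fun m => rfl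
        rw [Set.mem_singleton_iff] at this
        exact congrArg Subtype.val this
    obtain ⟨B', hB', hcov, hind⟩ := Blocks.exists_inducing hKT hM hb hTiff hB
      ⟨χ, hχ, θ, by rw [hbθ]; rfl, hθ⟩
    obtain ⟨B₁, hind₁, -, -, hmem⟩ := Blocks.exists_induced_block hKT hM hb hTiff hB' hcov
    obtain rfl := Blocks.induced_unique hM hind₁ hind
    obtain ⟨hD, hheight⟩ := Blocks.defect_and_heights hKT hM hb hTiff hB' hcov hind
    obtain ⟨ψ, hψ, hχψ⟩ := (hmem χ).1 hχ
    obtain ⟨χ', hχ', hχ'e, hh⟩ := hheight ψ hψ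
    have : χ' = χ := Subtype.ext (hχ'e.trans hχψ.symm)
    subst this
    rw [hh]
    obtain ⟨D, hDdef⟩ := DefectThms.exists_defectGroup hM hB'
    have hlt : Nat.card T < n := by
      rw [← hn]
      refine lt_of_le_of_ne (Nat.le_of_dvd Nat.card_pos T.card_subgroup_dvd_card) fun h => hinv fun g => ?_
      have : g ∈ T := (Subgroup.eq_top_of_card_eq T h) ▸ Subgroup.mem_top g
      exact this
    refine le_trans (ih _ hlt T rfl (QdFree.isPSolvable_subgroup hs T) M hM B' hB' D hDdef ψ hψ) ?_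
    obtain ⟨k, hk⟩ := DefectThms.exists_defectGroup_conj hM hB (hD D hDdef) hP
    have e : D ≃* P := ((D.equivMapOfInjective _ T.subtype_injective).trans
      ((D.map T.subtype).equivMapOfInjective _ (MulEquiv.injective _))).trans (MulEquiv.subgroupCongr hk)
    rw [center_index_eq e]

end Cfsg.Agent.Fg24.PSolvHeight
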