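import Mathlib
import Cfsg.Agent.ProjExt.Ratio
import Cfsg.Agent.Char.Gallagher
import Cfsg.Agent.Char.DerivedPrime
import Cfsg.Agent.Fg24.Osima.Extension
import Cfsg.Agent.Layer.PConstraint
import Cfsg.Agent.CharArith.Basic

/-!
The `p`-part of the degree of a character over an invariant character of the core.
-/

set_option autoImplicit false

namespace Cfsg.Agent.Fg24.PSolvHeight

open scoped commutatorElement

universe u

variable {p : ℕ} [hp : Fact p.Prime]

/-- The preimage of `Z(O_p(G/O_{p'}(G)))`. -/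
def liftCenter (p : ℕ) (G : Type u) [Group G] : Subgroup G :=
  (Cfsg.pCore p (G ⧸ Cfsg.pPrimeCore p G) ⊓
      Subgroup.centralizer (Cfsg.pCore p (G ⧸ Cfsg.pPrimeCore p G) : Set (G ⧸ Cfsg.pPrimeCore p G))).comap
    (QuotientGroup.mk' (Cfsg.pPrimeCore p G))

theorem core_le_liftCenter {G : Type u} [Group G] : Cfsg.pPrimeCore p G ≤ liftCenter p G := by
  intro x hx
  rw [liftCenter, Subgroup.mem_comap, QuotientGroup.mk'_apply, (QuotientGroup.eq_one_iff x).2 hx]
  exact one_mem _

theorem liftCenter_normal {G : Type u} [Group G] [Finite G] : (liftCenter p G).Normal := by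
  have h1 : (Cfsg.pCore p (G ⧸ Cfsg.pPrimeCore p G)).Normal := inferInstance
  have h2 : (Subgroup.centralizer
      (Cfsg.pCore p (G ⧸ Cfsg.pPrimeCore p G) : Set (G ⧸ Cfsg.pPrimeCore p G))).Normal := inferInstance
  have h3 : (Cfsg.pCore p (G ⧸ Cfsg.pPrimeCore p G) ⊓ Subgroup.centralizer
      (Cfsg.pCore p (G ⧸ Cfsg.pPrimeCore p G) : Set (G ⧸ Cfsg.pPrimeCore p G))).Normal := inferInstance
  exact h3.comap _

theorem relIndex_eq_pow {G : Type u} [Group G] [Finite G] :
    ∃ k : ℕ, (Cfsg.pPrimeCore p G).relIndex (liftCenter p G) = p ^ k := by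
  set K := Cfsg.pPrimeCore p G
  set Z := Cfsg.pCore p (G ⧸ K) ⊓ Subgroup.centralizer (Cfsg.pCore p (G ⧸ K) : Set (G ⧸ K))
  have hZ : IsPGroup p Z := Core.pCore_isPGroup.to_le inf_le_left
  obtain ⟨k, hk⟩ := IsPGroup.iff_card.1 hZ
  refine ⟨k, ?_⟩
  rw [← hk]
  show K.relIndex (Z.comap (QuotientGroup.mk' K)) = Nat.card Z
  have h := Subgroup.relIndex_comap (⊥ : Subgroup (G ⧸ K)) (QuotientGroup.mk' K)
    (Z.comap (QuotientGroup.mk' K))
  rw [MonoidHom.comap_bot, QuotientGroup.ker_mk', Subgroup.relIndex_bot_left,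
    Subgroup.map_comap_eq_self_of_surjective (QuotientGroup.mk'_surjective K)] at h
  exact h

theorem commutator_mem {G : Type u} [Group G] {a b : G} (ha : a ∈ liftCenter p G)
    (hb : b ∈ liftCenter p G) : ⁅a, b⁆ ∈ Cfsg.pPrimeCore p G := by
  rw [← QuotientGroup.eq_one_iff, ← QuotientGroup.mk'_apply, map_commutatorElement,
    commutatorElement_eq_one_iff_mul_comm]
  exact (Subgroup.mem_centralizer_iff.1 (Subgroup.mem_inf.1 ha).2 _ (Subgroup.mem_inf.1 hb).1).symm

/-- The `p`-part of the index of `liftCenter` is bounded by the index of the centre of a Sylow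
subgroup. -/
theorem index_liftCenter_le {G : Type u} [Group G] [Finite G] (hs : Cfsg.IsPSolvable p G)
    (S : Sylow p G) :
    (liftCenter p G).index.factorization p ≤
      (Subgroup.center (S : Subgroup G)).index.factorization p := by
  set K := Cfsg.pPrimeCore p G
  set f := QuotientGroup.mk' K
  have hf : Function.Surjective f := QuotientGroup.mk'_surjective K
  let T : Sylow p (G ⧸ K) := S.mapSurjective hf
  have hT : (T : Subgroup (G ⧸ K)) = (S : Subgroup G).map f := Sylow.coe_mapSurjective hf S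
  let Z : Subgroup (G ⧸ K) := ((Subgroup.center (S : Subgroup G)).map (S : Subgroup G).subtype).map f
  have hself : Subgroup.centralizer (Cfsg.pCore p (G ⧸ K) : Set (G ⧸ K)) ≤ Cfsg.pCore p (G ⧸ K) :=
    Layer.pCoreSelfCentral_of_isPSolvable (Layer.isPSolvable_of_surjective hs hf)
      Core.pPrimeCore_quotient_eq_bot
  have hZ : Z ≤ Cfsg.pCore p (G ⧸ K) ⊓ Subgroup.centralizer (Cfsg.pCore p (G ⧸ K) : Set (G ⧸ K)) := by
    suffices h : Z ≤ Subgroup.centralizer (Cfsg.pCore p (G ⧸ K) : Set (G ⧸ K)) from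
      le_inf (h.trans hself) h
    rintro _ ⟨_, ⟨z, hz, rfl⟩, rfl⟩
    rw [Subgroup.mem_centralizer_iff]
    intro y hy
    have hyT : y ∈ (T : Subgroup (G ⧸ K)) := Core.pCore_le_sylow T hy
    rw [hT] at hyT
    obtain ⟨s, hs', rfl⟩ := hyT
    show f s * f (z : G) = f (z : G) * f s
    rw [← map_mul, ← map_mul]
    exact congrArg f (congrArg Subtype.val (Subgroup.mem_center_iff.1 hz ⟨s, hs'⟩) :)
  have h1 : (liftCenter p G).index = (Cfsg.pCore p (G ⧸ K) ⊓
      Subgroup.centralizer (Cfsg.pCore p (G ⧸ K) : Set (G ⧸ K))).index :=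
    Subgroup.index_comap_of_surjective _ hf
  have h2 : (liftCenter p G).index ∣ Z.index := h1 ▸ Subgroup.index_dvd_of_le hZ
  have h3 : Z.index ∣ ((Subgroup.center (S : Subgroup G)).map (S : Subgroup G).subtype).index :=
    Subgroup.index_map_dvd _ hf
  refine le_trans ((Nat.factorization_le_iff_dvd Subgroup.index_ne_zero_of_finite
    Subgroup.index_ne_zero_of_finite).2 (h2.trans h3) p) ?_
  rw [Subgroup.index_map_subtype, Nat.factorization_mul Subgroup.index_ne_zero_of_finite
    Subgroup.index_ne_zero_of_finite, Finsupp.add_apply,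
    Nat.factorization_eq_zero_of_not_dvd S.not_dvd_index, add_zero]

theorem degree_valuation_le {G : Type u} [Group G] [Fintype G] (hs : Cfsg.IsPSolvable p G)
    {K : Subgroup G} [K.Normal] [Fintype K] (hK : K = Cfsg.pPrimeCore p G) (θ : Cfsg.IrrCharacter K)
    (hθ : ∀ g : G, Char.conjFun g (θ : K → ℂ) = θ) (χ : Cfsg.IrrCharacter G)
    (hcon : Cfsg.classInner (fun n : K => (χ : G → ℂ) n) (θ : K → ℂ) ≠ 0) (S : Sylow p G) :
    (Cfsg.charDegree (χ : G → ℂ)).factorization p ≤
      (Subgroup.center (S : Subgroup G)).index.factorization p := by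
  classical
  subst hK
  set A := liftCenter p G with hA
  have hAn : A.Normal := liftCenter_normal
  have hKA : Cfsg.pPrimeCore p G ≤ A := core_le_liftCenter
  have hcop : (Nat.card (Cfsg.pPrimeCore p G)).Coprime p :=
    ((Nat.Prime.coprime_iff_not_dvd hp.out).2 Core.not_dvd_card_pPrimeCore).symm
  obtain ⟨k, hk⟩ := relIndex_eq_pow (p := p) (G := G)
  obtain ⟨θ', hθ', hres, hinv⟩ := Fg24.Osima.exists_invariant_extension hp.out (Cfsg.pPrimeCore p G)
    A hKA hcop hk θ.2 hθ
  -- a constituent of the restriction to `A` above `θ`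
  have := Fintype.ofFinite A
  let K' : Subgroup A := (Cfsg.pPrimeCore p G).subgroupOf A
  have := Fintype.ofFinite K'
  obtain ⟨η, hη, hηθ⟩ : ∃ η : Cfsg.IrrCharacter A,
      Cfsg.classInner (fun a : A => (χ : G → ℂ) a) (η : A → ℂ) ≠ 0 ∧
      Cfsg.classInner (fun n : K' => (η : A → ℂ) n) (fun n : K' => θ' n) ≠ 0 := by
    by_contra! hno
    apply hcon
    have hexp := Char.classFun_expansion (Char.isClassFunction_of_isCharacter
      (Char.isCharacter_res A (Char.IsIrr.isCharacter χ.2)))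
    have e := ProjExt.classInner_subgroupOf (Cfsg.pPrimeCore p G) A hKA
      (fun n => (χ : G → ℂ) n) (θ : Cfsg.pPrimeCore p G → ℂ)
    rw [← e]
    have e2 : (fun x : K' => (θ : Cfsg.pPrimeCore p G → ℂ) ⟨(x : A), Subgroup.mem_subgroupOf.1 x.2⟩) =
        fun x : K' => θ' x := funext fun x => (hres ⟨(x : A), Subgroup.mem_subgroupOf.1 x.2⟩).symm
    show Cfsg.classInner (fun x : K' => (χ : G → ℂ) (x : A)) _ = 0
    rw [e2]
    have hexp' : (fun x : K' => (χ : G → ℂ) (x : A)) =
        ∑ η : Cfsg.IrrCharacter A, Cfsg.classInner (fun a : A => (χ : G → ℂ) a) (η : A → ℂ) •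
          fun x : K' => (η : A → ℂ) x := funext fun x => by
      have := congrFun hexp (x : A)
      simpa only [Finset.sum_apply, Pi.smul_apply, smul_eq_mul] using this
    rw [hexp', Char.classInner_sum_left]
    refine Finset.sum_eq_zero fun η _ => ?_
    rw [Char.classInner_smul_left]
    by_cases h : Cfsg.classInner (fun a : A => (χ : G → ℂ) a) (η : A → ℂ) = 0
    · rw [h, zero_mul]
    · rw [hno η h, mul_zero]
  have : K'.Normal := Subgroup.normal_subgroupOf
  have hirr : Cfsg.IsIrrCharacter K' (fun n : K' => θ' n) := by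
    have e : (fun x : K' => θ' x) = fun x : K' =>
        (θ : Cfsg.pPrimeCore p G → ℂ) ⟨(x : A), Subgroup.mem_subgroupOf.1 x.2⟩ :=
      funext fun x => hres ⟨(x : A), Subgroup.mem_subgroupOf.1 x.2⟩
    rw [e]
    exact (Char.isIrrCharacter_comp_equiv (Subgroup.subgroupOfEquivOfLe hKA)).2 θ.2
  obtain ⟨hβ, hβK, hprod⟩ := (Char.gallagher K' hθ' hirr η.2).1 hηθ
  have hβ1 : Char.galEta K' θ' (η : A → ℂ) 1 = 1 := by
    refine Char.degree_one_of_commutator_le_ker hβ fun g hg => hβK g ?_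
    have hle : commutator A ≤ K' := by
      rw [commutator_def, Subgroup.commutator_le]
      intro x _ y _
      show ((⁅x, y⁆ : A) : G) ∈ Cfsg.pPrimeCore p G
      exact commutator_mem x.2 y.2
    exact hle hg
  have hη1 : (η : A → ℂ) 1 = (θ : Cfsg.pPrimeCore p G → ℂ) 1 := by
    rw [hprod, Pi.mul_apply, hβ1, one_mul]
    exact hres 1
  obtain ⟨r, hr, hrd⟩ := ProjExt.exists_ratio_dvd_index χ.2 η.2 hη
  rw [hη1] at hr
  obtain ⟨d, hd, hdpos⟩ : ∃ d : ℕ, (θ : Cfsg.pPrimeCore p G → ℂ) 1 = d ∧ d ∣ Nat.card (Cfsg.pPrimeCore p G) := by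
    refine ⟨Cfsg.charDegree (θ : Cfsg.pPrimeCore p G → ℂ), (CharArith.irr_degree_spec θ).1, ?_⟩
    exact Char.IsIrr.degree_dvd_card θ.2 (CharArith.irr_degree_spec θ).1
  have hχd : Cfsg.charDegree (χ : G → ℂ) = r * d := by
    have := (CharArith.irr_degree_spec χ).1
    rw [hr, hd] at this
    exact_mod_cast this.symm
  have hr0 : r ≠ 0 := fun h => by
    rw [h, Nat.cast_zero, zero_mul] at hr
    exact Char.IsIrr.one_ne_zero χ.2 hr
  have hd0 : d ≠ 0 := fun h => by
    rw [h, Nat.cast_zero] at hd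
    exact Char.IsIrr.one_ne_zero θ.2 hd
  rw [hχd, Nat.factorization_mul hr0 hd0, Finsupp.add_apply,
    Nat.factorization_eq_zero_of_not_dvd (fun h => Core.not_dvd_card_pPrimeCore (p := p) (G := G)
      (h.trans hdpos)), add_zero]
  exact le_trans ((Nat.factorization_le_iff_dvd hr0 Subgroup.index_ne_zero_of_finite).2 hrd p)
    (index_liftCenter_le hs S)

end Cfsg.Agent.Fg24.PSolvHeight
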